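import Groth.Agent.S0436
import Groth.Agent.AlgSpLib.GeomRedTest
import Groth.Agent.SpQS.DecentProps
import Groth.Agent.SpQS.DiagGood
import Groth.Agent.SpQS.Basic
import Groth.Agent.InfLift.SpaceSmallExt

/-!
Proper flat algebraic spaces over a discrete valuation ring with reduced special fibre are reduced.
-/

universe u
open CategoryTheory CategoryTheory.Limits AlgebraicGeometry AlgSp IsLocalRing TensorProduct

set_option backward.isDefEq.respectTransparency false

namespace Groth.Agent.RedDvrSp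

open Groth.Agent.AlgSpLib

variable {R : Type u} [CommRing R] [IsDomain R] [IsDiscreteValuationRing R]

omit [IsDomain R] [IsDiscreteValuationRing R] in
theorem isReduced_fiber_of_residue [IsLocalRing R] {A : Type u} [CommRing A] [Algebra R A]
    (h : _root_.IsReduced (ResidueField R ⊗[R] A)) : _root_.IsReduced ((closedPoint R).asIdeal.Fiber A) := by
  haveI : (closedPoint R).asIdeal.IsMaximal := IsLocalRing.maximalIdeal.isMaximal R
  let e : ResidueField R ≃ₐ[R] (closedPoint R).asIdeal.ResidueField :=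
    AlgEquiv.ofBijective (IsScalarTower.toAlgHom R (R ⧸ (closedPoint R).asIdeal) _)
      (Ideal.bijective_algebraMap_quotient_residueField (closedPoint R).asIdeal)
  exact isReduced_of_injective (Algebra.TensorProduct.congr e.symm (AlgEquiv.refl (R := R) (A₁ := A))).toRingEquiv
    (Algebra.TensorProduct.congr e.symm (AlgEquiv.refl (R := R) (A₁ := A))).injective

/-- generisations of special fibre points have reduced local rings -/
theorem isReduced_stalk_of_specializes {U : Scheme.{u}} (f : U ⟶ Spec (CommRingCat.of R)) [Flat f]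
    [IsLocallyNoetherian U]
    (hred : AlgebraicGeometry.IsReduced (pullback f (Spec.map (CommRingCat.ofHom (residue R)))))
    {x y : U} (hxy : x ⤳ y) (hfy : f y = closedPoint R) : _root_.IsReduced (U.presheaf.stalk x) := by
  obtain ⟨V, hV, hyV, -⟩ := exists_isAffineOpen_mem_and_subset (U := (⊤ : U.Opens)) (x := y) trivial
  have hxV : x ∈ V := hxy.mem_open V.2 hyV
  obtain ⟨φ, hφ⟩ := Spec.map_surjective (hV.fromSpec ≫ f)
  letI := φ.hom.toAlgebra
  haveI : Module.Flat R Γ(U, V) := by
    have : Flat (Spec.map φ) := hφ ▸ inferInstance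
    rw [HasRingHomProperty.Spec_iff (P := @Flat)] at this
    exact this
  haveI : IsNoetherianRing Γ(U, V) := IsLocallyNoetherian.component_noetherian ⟨V, hV⟩
  have hfib : _root_.IsReduced ((closedPoint R).asIdeal.Fiber Γ(U, V)) := by
    refine isReduced_fiber_of_residue ?_
    let q : pullback (Spec.map (CommRingCat.ofHom (algebraMap R Γ(U, V)))) (Spec.map (CommRingCat.ofHom (residue R))) ⟶
        pullback f (Spec.map (CommRingCat.ofHom (residue R))) :=
      pullback.map _ _ _ _ hV.fromSpec (𝟙 _) (𝟙 _) (by rw [Category.comp_id]; exact hφ) (by simp)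
    haveI : IsOpenImmersion q :=
      @Scheme.pullback_map_isOpenImmersion _ _ _ _ _ _ _ _ _ _ hV.fromSpec _ _ _ _ inferInstance inferInstance inferInstance
    haveI : AlgebraicGeometry.IsReduced (pullback (Spec.map (CommRingCat.ofHom (algebraMap R Γ(U, V))))
        (Spec.map (CommRingCat.ofHom (algebraMap R (ResidueField R))))) := isReduced_of_isOpenImmersion q
    haveI : AlgebraicGeometry.IsReduced (Spec (CommRingCat.of (Γ(U, V) ⊗[R] ResidueField R))) :=
      isReduced_of_isOpenImmersion (pullbackSpecIso R Γ(U, V) (ResidueField R)).inv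
    haveI : _root_.IsReduced (Γ(U, V) ⊗[R] ResidueField R) :=
      isReduced_of_injective (Scheme.ΓSpecIso (CommRingCat.of (Γ(U, V) ⊗[R] ResidueField R))).inv.hom
        (ConcreteCategory.bijective_of_isIso (Scheme.ΓSpecIso (CommRingCat.of (Γ(U, V) ⊗[R] ResidueField R))).inv).1
    exact isReduced_of_injective (Algebra.TensorProduct.comm R (ResidueField R) Γ(U, V)).toRingEquiv
      (Algebra.TensorProduct.comm R (ResidueField R) Γ(U, V)).injective
  let P := hV.primeIdealOf ⟨x, hxV⟩
  let Q := hV.primeIdealOf ⟨y, hyV⟩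
  have hPy : hV.fromSpec Q = y := hV.fromSpec_primeIdealOf _
  have hPx : hV.fromSpec P = x := hV.fromSpec_primeIdealOf _
  have hQ : (maximalIdeal R).map (algebraMap R Γ(U, V)) ≤ Q.asIdeal := by
    rw [Ideal.map_le_iff_le_comap]
    have h1 : f (hV.fromSpec Q) = Spec.map φ Q := by rw [← Scheme.Hom.comp_apply, hφ]
    rw [hPy, hfy] at h1
    exact (congrArg PrimeSpectrum.asIdeal h1).le
  have hPQ : P.asIdeal ≤ Q.asIdeal := by
    refine (PrimeSpectrum.le_iff_specializes _ _).mpr (hV.fromSpec.isOpenEmbedding.isInducing.specializes_iff.mp ?_)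
    rwa [hPx, hPy]
  letI := U.presheaf.algebra_section_stalk ⟨x, hxV⟩
  haveI := hV.isLocalization_stalk ⟨x, hxV⟩
  refine ⟨fun z hz => ?_⟩
  obtain ⟨a, s, rfl⟩ := IsLocalization.exists_mk'_eq P.asIdeal.primeCompl z
  obtain ⟨k, hk⟩ := hz
  rw [← IsLocalization.mk'_pow, IsLocalization.mk'_eq_zero_iff] at hk
  obtain ⟨t, ht⟩ := hk
  have hta : IsNilpotent ((t : Γ(U, V)) * a) := ⟨k + 1, by
    rw [mul_pow, pow_succ, pow_succ, show (t : Γ(U, V)) ^ k * t * (a ^ k * a) = t ^ k * a * ((t : Γ(U, V)) * a ^ k) by ring, ht, mul_zero]⟩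
  obtain ⟨c, hcQ, hc⟩ := S0436.ring_part (closedPoint R) rfl hfib Q.asIdeal hQ _ hta
  rw [IsLocalization.mk'_eq_zero_iff]
  exact ⟨⟨c * t, fun h => (P.2.mem_or_mem h).elim (fun h' => hcQ (hPQ h')) t.2⟩, by rw [mul_assoc]; exact hc⟩

theorem isOpenImmersion_fractionRing :
    IsOpenImmersion (Spec.map (CommRingCat.ofHom (algebraMap R (FractionRing R)))) := by
  obtain ⟨ϖ, hϖ⟩ := IsDiscreteValuationRing.exists_irreducible R
  let K := FractionRing R
  have hinj : Function.Injective (algebraMap R K) := IsFractionRing.injective R K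
  haveI : IsLocalization.Away ϖ K := by
    refine { map_units := ?_, surj := ?_, exists_of_eq := fun h => ⟨1, by simpa using hinj h⟩ }
    · rintro ⟨_, n, rfl⟩
      exact (IsUnit.mk0 _ fun h => pow_ne_zero n hϖ.ne_zero (hinj (h.trans (map_zero _).symm)))
    · intro z
      obtain ⟨a, c, hc, rfl⟩ := IsFractionRing.div_surjective (A := R) z
      obtain ⟨n, u, rfl⟩ := IsDiscreteValuationRing.eq_unit_mul_pow_irreducible (nonZeroDivisors.ne_zero hc) hϖ
      refine ⟨⟨(↑u⁻¹ : R) * a, ⟨ϖ ^ n, n, rfl⟩⟩, ?_⟩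
      show algebraMap R K a / algebraMap R K (↑u * ϖ ^ n) * algebraMap R K (ϖ ^ n) = algebraMap R K ((↑u⁻¹ : R) * a)
      have hu : algebraMap R K ((↑u⁻¹ : R)) * algebraMap R K (u : R) = 1 := by rw [← map_mul, Units.inv_mul, map_one]
      have hn : algebraMap R K (ϖ ^ n) ≠ 0 := fun h => pow_ne_zero n hϖ.ne_zero (hinj (h.trans (map_zero _).symm))
      have hu0 : algebraMap R K (u : R) ≠ 0 := fun h => by rw [h, mul_zero] at hu; exact zero_ne_one hu
      rw [map_mul, map_mul, div_mul_eq_mul_div, div_eq_iff (mul_ne_zero hu0 hn)]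
      linear_combination (algebraMap R K a * algebraMap R K (ϖ ^ n)) * hu.symm
  exact IsOpenImmersion.of_isLocalization ϖ

/-- base change of a chart along a scheme over the base -/
theorem exists_bc_chart {S : Scheme.{u}} {F : Sp S} (s : F ⟶ (yon S).obj (Over.mk (𝟙 S))) {U : Over S}
    (a : (yon S).obj U ⟶ F) (T : Over S) (t : T ⟶ Over.mk (𝟙 S)) {P : Sp S} {fst : P ⟶ F} {snd : P ⟶ (yon S).obj T}
    (sq : IsPullback fst snd s ((yon S).map t)) :
    ∃ (p : Over.mk (pullback.fst U.hom T.hom ≫ U.hom) ⟶ U) (l : (yon S).obj (Over.mk (pullback.fst U.hom T.hom ≫ U.hom)) ⟶ P),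
      IsPullback ((yon S).map p) l a fst := by
  let W : Over S := Over.mk (pullback.fst U.hom T.hom ≫ U.hom)
  let p : W ⟶ U := Over.homMk (pullback.fst U.hom T.hom) rfl
  let q : W ⟶ T := Over.homMk (pullback.snd U.hom T.hom) pullback.condition.symm
  have sqW : IsPullback ((yon S).map p) ((yon S).map q) (a ≫ s) ((yon S).map t) := by
    rw [(Over.mkIdTerminal.isTerminalObj (yon S)).hom_ext (a ≫ s) ((yon S).map (Over.homMk U.hom : U ⟶ Over.mk (𝟙 S)))]
    refine isPullback_yon_iff.2 ?_
    show IsPullback (pullback.fst U.hom T.hom) (pullback.snd U.hom T.hom) U.hom t.left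
    rw [show t.left = T.hom from (Category.comp_id _).symm.trans (Over.w t)]
    exact IsPullback.of_hasPullback _ _
  refine ⟨p, sq.lift ((yon S).map p ≫ a) ((yon S).map q) (by rw [Category.assoc]; exact sqW.w),
    IsPullback.of_bot ?_ (sq.lift_fst _ _ _).symm sq⟩
  rw [sq.lift_snd]
  exact sqW

theorem isReducedSp_of_special {X : Sp (Spec (CommRingCat.of R))} (hX : IsAlgSpace X)
    (s : X ⟶ (yon _).obj (Over.mk (𝟙 (Spec (CommRingCat.of R))))) (hs1 : IsProperMor s) (hs2 : LocP @Flat s)
    {X0 : Sp (Spec (CommRingCat.of R))} {fst : X0 ⟶ X}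
    {snd : X0 ⟶ (yon _).obj (Over.mk (Spec.map (CommRingCat.ofHom (residue R))))}
    {t : Over.mk (Spec.map (CommRingCat.ofHom (residue R))) ⟶ Over.mk (𝟙 (Spec (CommRingCat.of R)))}
    (sq : IsPullback fst snd s ((yon _).map t))
    (h0 : EtaleLocally (fun U => IsReduced U) X0) :
    EtaleLocally (fun U => IsReduced U) X ∧
      ∀ (U : Over (Spec (CommRingCat.of R))) (a : (yon _).obj U ⟶ X), RepWith @Etale a → IsReduced U.left := by
  have ht := Over.mkIdTerminal.isTerminalObj (yon (Spec (CommRingCat.of R)))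
  have key : ∀ (U : Over (Spec (CommRingCat.of R))) (a : (yon _).obj U ⟶ X), RepWith @Etale a → IsReduced U.left := by
    intro U a ha
    have comm : a ≫ s = (yon _).map (Over.homMk U.hom : U ⟶ Over.mk (𝟙 _)) ≫ 𝟙 _ := ht.hom_ext _ _
    have : Flat U.hom := hs2 a (𝟙 _) (Over.homMk U.hom) ha repWith_id' comm
    have : LocallyOfFiniteType U.hom := hs1.2.1.1 a (𝟙 _) (Over.homMk U.hom) ha repWith_id' comm
    haveI : IsLocallyNoetherian U.left := LocallyOfFiniteType.isLocallyNoetherian U.hom
    obtain ⟨p, l, sql⟩ := exists_bc_chart s a (Over.mk (Spec.map (CommRingCat.ofHom (residue R)))) t sq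
    have hX0 : IsAlgSpace X0 :=
      isAlgSpace_of_isPullback_space (IsAlgSpace.yon_obj _) hX (IsAlgSpace.yon_obj _) sq
    have hl : RepWith @Etale l := repWith_baseChange sql ha
    have hred : IsReduced (pullback U.hom (Spec.map (CommRingCat.ofHom (residue R)))) :=
      @isReduced_of_isReduced_stalk _ (fun w => isReduced_stalk_chart hX0 h0 hl w)
    have hqs : IsQuasiSeparatedSp X := (SpQS.isQuasiSeparatedSp_iff_mor s).2
      (repWith_mono (fun _ _ g hg => by
        have : IsClosedImmersion g := hg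
        exact (inferInstance : QuasiCompact g)) hs1.1)
    haveI : ∀ u : ↥U.left, _root_.IsReduced (U.left.presheaf.stalk u) := fun u => by
      have hc : IsClosed (Points.map s '' closure {Points.ofPt a u}) :=
        hs1.2.2 (IsAlgSpace.yon_obj _) (𝟙 _) (𝟙 X) s (IsPullback.of_id_fst) _ isClosed_closure
      obtain ⟨_, ⟨y, hy, rfl⟩, hyc⟩ : ∃ z ∈ Points.map s '' closure {Points.ofPt a u},
          z = Points.ofScheme (Over.mk (𝟙 (Spec (CommRingCat.of R)))) (closedPoint R) := by
        refine ⟨_, ?_, rfl⟩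
        obtain ⟨z, hz⟩ := (Points.schemeEquiv _).surjective (Points.map s (Points.ofPt a u))
        have hz' : Points.schemeEquiv _ z ∈ Points.map s '' closure {Points.ofPt a u} :=
          hz ▸ ⟨_, subset_closure rfl, rfl⟩
        exact hc.stableUnderSpecialization
          ((IsLocalRing.specializes_closedPoint z).map (Points.continuous_ofPt (𝟙 _))) hz'
      obtain ⟨V, q, hqe, hqs'⟩ := hX.atlas
      obtain ⟨v', rfl⟩ := ofPt_surjective hqs' y
      obtain ⟨v'', hv1, hv2⟩ := SpQS.exists_specializes_lift hX (SpQS.goodAt_of_qsDiag hX hqs (Points.ofPt a u))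
        (specializes_iff_mem_closure.2 hy) hqe v' rfl
      have commV : q ≫ s = (yon _).map (Over.homMk V.hom : V ⟶ Over.mk (𝟙 _)) ≫ 𝟙 _ := ht.hom_ext _ _
      have : Flat V.hom := hs2 q (𝟙 _) (Over.homMk V.hom) hqe repWith_id' commV
      have : LocallyOfFiniteType V.hom := hs1.2.1.1 q (𝟙 _) (Over.homMk V.hom) hqe repWith_id' commV
      haveI : IsLocallyNoetherian V.left := LocallyOfFiniteType.isLocallyNoetherian V.hom
      obtain ⟨pV, lV, sqV⟩ := exists_bc_chart s q (Over.mk (Spec.map (CommRingCat.ofHom (residue R)))) t sq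
      have hredV : IsReduced (pullback V.hom (Spec.map (CommRingCat.ofHom (residue R)))) :=
        @isReduced_of_isReduced_stalk _ (fun w => isReduced_stalk_chart hX0 h0 (repWith_baseChange sqV hqe) w)
      have hfv : V.hom v' = closedPoint R := (Points.schemeEquiv (Over.mk (𝟙 _))).injective (by
        show Points.ofScheme (Over.mk (𝟙 (Spec (CommRingCat.of R)))) _ = Points.ofScheme (Over.mk (𝟙 (Spec (CommRingCat.of R)))) _
        rw [← hyc, Points.map_ofPt, commV, Category.comp_id]
        exact ((ofScheme_map (Over.homMk V.hom : V ⟶ Over.mk (𝟙 _)) v').symm.trans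
          (Points.ofPt_eq_map_ofScheme _ _).symm))
      have hv'' := isReduced_stalk_of_specializes V.hom hredV hv1 hfv
      obtain ⟨W, pu, pv, sqW⟩ := exists_pullback hX.diag a q
      obtain ⟨w, hw₁, hw₂⟩ := (ofPt_eq_iff sqW u v'').1 hv2.symm
      have : Etale pu.left := (repWith_yon_iff pu).1 (repWith_baseChange sqW.flip hqe)
      have : Etale pv.left := (repWith_yon_iff pv).1 (repWith_baseChange sqW ha)
      rw [← hw₁]
      refine (isReduced_stalk_iff_of_smooth pu.left w).1 ((isReduced_stalk_iff_of_smooth pv.left w).2 ?_)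
      rw [hw₂]; exact hv''
    exact isReduced_of_isReduced_stalk _
  obtain ⟨U, a, ha, has⟩ := hX.atlas
  exact ⟨⟨U, a, ha, has, key U a ha⟩, key⟩

theorem isReducedSp_generic {X : Sp (Spec (CommRingCat.of R))} (hX : IsAlgSpace X)
    (s : X ⟶ (yon _).obj (Over.mk (𝟙 (Spec (CommRingCat.of R)))))
    (hred : ∀ (U : Over (Spec (CommRingCat.of R))) (a : (yon _).obj U ⟶ X), RepWith @Etale a → IsReduced U.left)
    {Xη : Sp (Spec (CommRingCat.of R))} {fst : Xη ⟶ X}
    {snd : Xη ⟶ (yon _).obj (Over.mk (Spec.map (CommRingCat.ofHom (algebraMap R (FractionRing R)))))}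
    {t : Over.mk (Spec.map (CommRingCat.ofHom (algebraMap R (FractionRing R)))) ⟶ Over.mk (𝟙 (Spec (CommRingCat.of R)))}
    (sq : IsPullback fst snd s ((yon _).map t)) : EtaleLocally (fun U => IsReduced U) Xη := by
  obtain ⟨U, a, ha, has⟩ := hX.atlas
  obtain ⟨p, l, sql⟩ := exists_bc_chart s a (Over.mk (Spec.map (CommRingCat.ofHom (algebraMap R (FractionRing R))))) t sq
  refine ⟨_, l, repWith_baseChange sql ha, repWith_baseChange sql has, ?_⟩
  haveI := isOpenImmersion_fractionRing (R := R)
  haveI := hred U a ha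
  exact isReduced_of_isOpenImmersion (pullback.fst U.hom (Spec.map (CommRingCat.ofHom (algebraMap R (FractionRing R)))))

end Groth.Agent.RedDvrSp
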